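import Cfsg.Agent.H770.Hen.JDefs
import Cfsg.Agent.H802.FusSub

/-!
# S5175, the case J3, piece JB: `Aut_F(V) = GL₂(4)` (helper442)
-/

set_option autoImplicit false

namespace Cfsg.Agent.H442.J3F.JB

open Cfsg Cfsg.FusionSystem Cfsg.Agent.H802 Cfsg.Agent.H770.Hen

universe u

section rel

variable {Ω : Type*} [Group Ω] {K : Type} [Field K] {σ : K ≃+* K} (R : Rel Ω K σ)

/-- The graph of the automorphism `e(a,b,c) yⁱ ↦ e(da, σ(d)b, c) yⁱ` of `S`. -/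
def Gr (d : K) (x z : Ω) : Prop :=
  ∃ a b c, (x = R.e a b c ∧ z = R.e (d * a) (σ d * b) c) ∨
    (x = R.e a b c * R.y ∧ z = R.e (d * a) (σ d * b) c * R.y)

variable {R}

theorem Gr.unique {d : K} {x z z' : Ω} (h : Gr R d x z) (h' : Gr R d x z') : z = z' := by
  obtain ⟨a, b, c, ⟨h1, h2⟩ | ⟨h1, h2⟩⟩ := h <;> obtain ⟨a', b', c', ⟨h3, h4⟩ | ⟨h3, h4⟩⟩ := h'
  · obtain ⟨r1, r2, r3⟩ := R.e_inj (h1.symm.trans h3)
    rw [h2, h4, r1, r2, r3]
  · exact absurd (h3.symm.trans h1) (R.e_mul_y_ne _ _ _ _ _ _)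
  · exact absurd (h1.symm.trans h3) (R.e_mul_y_ne _ _ _ _ _ _)
  · obtain ⟨r1, r2, r3⟩ := R.e_inj (mul_right_cancel (h1.symm.trans h3))
    rw [h2, h4, r1, r2, r3]

theorem Gr.symm {d d' : K} (hdd : d' * d = 1) {x z : Ω} (h : Gr R d x z) : Gr R d' z x := by
  have h2 : σ d' * σ d = 1 := by rw [← map_mul, hdd, map_one]
  obtain ⟨a, b, c, ⟨h1, h3⟩ | ⟨h1, h3⟩⟩ := h
  · refine ⟨d * a, σ d * b, c, Or.inl ⟨h3, ?_⟩⟩
    rw [h1, ← mul_assoc, ← mul_assoc, hdd, h2, one_mul, one_mul]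
  · refine ⟨d * a, σ d * b, c, Or.inr ⟨h3, ?_⟩⟩
    rw [h1, ← mul_assoc, ← mul_assoc, hdd, h2, one_mul, one_mul]

theorem y_mul_e (R : Rel Ω K σ) (a b c : K) :
    R.y * R.e a b c = R.e (σ b) (σ a) (σ (c + a * b)) * R.y := by
  rw [← R.y_e, inv_mul_cancel_right]

theorem Gr.mul (hy : R.y * R.y = 1) {d : K} (hd : d * σ d = 1) {x z x' z' : Ω} (h : Gr R d x z)
    (h' : Gr R d x' z') : Gr R d (x * x') (z * z') := by
  have hsd : σ d * d = 1 := by rw [mul_comm]; exact hd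
  obtain ⟨a, b, c, ⟨rfl, rfl⟩ | ⟨rfl, rfl⟩⟩ := h <;> obtain ⟨a', b', c', ⟨rfl, rfl⟩ | ⟨rfl, rfl⟩⟩ := h'
  · refine ⟨a + a', b + b', c + c' + a * b', Or.inl ⟨R.e_mul _ _ _ _ _ _, ?_⟩⟩
    rw [R.e_mul]
    have e1 : d * a + d * a' = d * (a + a') := by ring
    have e2 : σ d * b + σ d * b' = σ d * (b + b') := by ring
    have e3 : c + c' + d * a * (σ d * b') = c + c' + a * b' := by linear_combination (a * b') * hd
    rw [e1, e2, e3]
  · refine ⟨a + a', b + b', c + c' + a * b', Or.inr ⟨by rw [← mul_assoc, R.e_mul], ?_⟩⟩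
    rw [← mul_assoc, R.e_mul]
    have e1 : d * a + d * a' = d * (a + a') := by ring
    have e2 : σ d * b + σ d * b' = σ d * (b + b') := by ring
    have e3 : c + c' + d * a * (σ d * b') = c + c' + a * b' := by linear_combination (a * b') * hd
    rw [e1, e2, e3]
  · refine ⟨a + σ b', b + σ a', c + σ (c' + a' * b') + a * σ a', Or.inr ⟨?_, ?_⟩⟩
    · rw [mul_assoc, y_mul_e, ← mul_assoc, R.e_mul]
    · rw [mul_assoc, y_mul_e, ← mul_assoc, R.e_mul]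
      have e1 : d * a + σ (σ d * b') = d * (a + σ b') := by rw [map_mul, R.sig]; ring
      have e2 : σ d * b + σ (d * a') = σ d * (b + σ a') := by rw [map_mul]; ring
      have e3 : c + σ (c' + d * a' * (σ d * b')) + d * a * σ (d * a') = c + σ (c' + a' * b') + a * σ a' := by
        simp only [map_mul, map_add, R.sig]
        linear_combination (σ a' * σ b' + a * σ a') * hd
      rw [e1, e2, e3]
  · refine ⟨a + σ b', b + σ a', c + σ (c' + a' * b') + a * σ a', Or.inl ⟨?_, ?_⟩⟩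
    · rw [← mul_assoc, mul_assoc (R.e a b c), y_mul_e, ← mul_assoc, mul_assoc, hy, mul_one, R.e_mul]
    · rw [← mul_assoc, mul_assoc (R.e (d * a) (σ d * b) c), y_mul_e, ← mul_assoc, mul_assoc, hy, mul_one, R.e_mul]
      have e1 : d * a + σ (σ d * b') = d * (a + σ b') := by rw [map_mul, R.sig]; ring
      have e2 : σ d * b + σ (d * a') = σ d * (b + σ a') := by rw [map_mul]; ring
      have e3 : c + σ (c' + d * a' * (σ d * b')) + d * a * σ (d * a') = c + σ (c' + a' * b') + a * σ a' := by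
        simp only [map_mul, map_add, R.sig]
        linear_combination (σ a' * σ b' + a * σ a') * hd
      rw [e1, e2, e3]

theorem gr_e (R : Rel Ω K σ) (d a b c : K) : Gr R d (R.e a b c) (R.e (d * a) (σ d * b) c) :=
  ⟨a, b, c, Or.inl ⟨rfl, rfl⟩⟩

theorem gr_ey (R : Rel Ω K σ) (d a b c : K) : Gr R d (R.e a b c * R.y) (R.e (d * a) (σ d * b) c * R.y) :=
  ⟨a, b, c, Or.inr ⟨rfl, rfl⟩⟩

/-- The diagonal endomorphism of `S`. -/
theorem exists_diag (R : Rel Ω K σ) (hy : R.y * R.y = 1) {d : K} (hd : d * σ d = 1) :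
    ∃ f : R.Sg →* Ω, ∀ x : R.Sg, Gr R d x (f x) := by
  have h1 : ∀ x : R.Sg, ∃ z, Gr R d x z := by
    rintro ⟨_, a, b, c, rfl | rfl⟩
    · exact ⟨_, gr_e R d a b c⟩
    · exact ⟨_, gr_ey R d a b c⟩
  choose f hf using h1
  exact ⟨MonoidHom.mk' f fun x x' => (hf (x * x')).unique ((hf x).mul hy hd (hf x')), hf⟩

theorem Gr.mem {d : K} {x z : Ω} (h : Gr R d x z) : z ∈ R.Sg := by
  obtain ⟨a, b, c, ⟨-, h⟩ | ⟨-, h⟩⟩ := h
  · exact ⟨_, _, _, Or.inl h⟩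
  · exact ⟨_, _, _, Or.inr h⟩

theorem R0_le_Sg (R : Rel Ω K σ) : R.R0 ≤ R.Sg := by
  rintro _ ⟨a, c, rfl | rfl⟩
  · exact ⟨_, _, _, Or.inl rfl⟩
  · exact ⟨_, _, _, Or.inr rfl⟩

theorem Gr.memR0 {d : K} {x z : Ω} (h : Gr R d x z) (hx : x ∈ R.R0) : z ∈ R.R0 := by
  obtain ⟨a', c', h' | h'⟩ := hx
  · have h1 : Gr R d x (R.e (d * a') (σ (d * a')) c') := by
      rw [h', map_mul]; exact gr_e R d _ _ _
    rw [h.unique h1]
    exact ⟨_, _, Or.inl rfl⟩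
  · have h1 : Gr R d x (R.e (d * a') (σ (d * a')) c' * R.y) := by
      rw [h', map_mul]; exact gr_ey R d _ _ _
    rw [h.unique h1]
    exact ⟨_, _, Or.inr rfl⟩

/-- `R₀` is normal in `S`. -/
theorem R0_conj (R : Rel Ω K σ) {s x : Ω} (hs : s ∈ R.Sg) (hx : x ∈ R.R0) : s * x * s⁻¹ ∈ R.R0 := by
  have hyR : R.y ∈ R.R0 := ⟨0, 0, Or.inr (by rw [map_zero, R.e_zero, one_mul])⟩
  have key : ∀ a b c : K, ∀ x ∈ R.R0, R.e a b c * x * (R.e a b c)⁻¹ ∈ R.R0 := by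
    rintro a b c _ ⟨a', c', rfl | rfl⟩
    · rw [R.e_conj]
      exact ⟨_, _, Or.inl rfl⟩
    · have h1 : R.e a b c * (R.e a' (σ a') c' * R.y) * (R.e a b c)⁻¹ =
          (R.e a b c * R.e a' (σ a') c' * (R.e a b c)⁻¹) * (R.e a b c * (R.y * (R.e a b c)⁻¹ * R.y⁻¹)) * R.y := by
        group
      have h2 : R.e a b c * (R.y * (R.e a b c)⁻¹ * R.y⁻¹) ∈ R.R0 := by
        rw [R.e_inv, R.y_e, R.e_mul]
        refine ⟨a + σ (-b), c + σ (-c + a * b + -a * -b) + a * σ (-a), Or.inl ?_⟩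
        congr 1
        simp only [map_add, R.sig, R.neg_eq]
        ring
      rw [h1, R.e_conj]
      exact R.R0.mul_mem (R.R0.mul_mem ⟨_, _, Or.inl rfl⟩ h2) hyR
  obtain ⟨a, b, c, rfl | rfl⟩ := hs
  · exact key _ _ _ _ hx
  · have h1 : R.e a b c * R.y * x * (R.e a b c * R.y)⁻¹ = R.e a b c * (R.y * x * R.y⁻¹) * (R.e a b c)⁻¹ := by group
    rw [h1]
    exact key _ _ _ _ (R.R0.mul_mem (R.R0.mul_mem hyR hx) (R.R0.inv_mem hyR))

theorem Gr.comp {d d' : K} {x z w : Ω} (h : Gr R d x z) (h' : Gr R d' z w) : Gr R (d' * d) x w := by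
  obtain ⟨a, b, c, ⟨rfl, rfl⟩ | ⟨rfl, rfl⟩⟩ := h
  · rw [h'.unique (gr_e R d' _ _ _), ← mul_assoc, ← mul_assoc, ← map_mul]
    exact gr_e R _ _ _ _
  · rw [h'.unique (gr_ey R d' _ _ _), ← mul_assoc, ← mul_assoc, ← map_mul]
    exact gr_ey R _ _ _ _

theorem Gr.one {x : Ω} (hx : x ∈ R.Sg) : Gr R 1 x x := by
  obtain ⟨a, b, c, rfl | rfl⟩ := hx
  · have h := gr_e R 1 a b c
    rwa [map_one, one_mul, one_mul] at h
  · have h := gr_ey R 1 a b c
    rwa [map_one, one_mul, one_mul] at h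

/-- The diagonal automorphism of `R₀`. -/
theorem exists_alpha (R : Rel Ω K σ) (hy : R.y * R.y = 1) {d : K} (hd : d * σ d = 1) :
    ∃ α : MulAut R.R0, ∀ x : R.R0, Gr R d x (α x : R.R0) := by
  have hsd : σ d * d = 1 := by rw [mul_comm]; exact hd
  obtain ⟨f, hf⟩ := exists_diag R hy hd
  obtain ⟨g, hgf⟩ : ∃ g : R.R0 →* Ω, g = f.comp (Subgroup.inclusion (R0_le_Sg R)) := ⟨_, rfl⟩
  have hg : ∀ x : R.R0, Gr R d x (g x) := fun x => by
    rw [hgf]; exact hf (Subgroup.inclusion (R0_le_Sg R) x)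
  have hinj : Function.Injective g := by
    intro x x' h
    have h1 := (hg x).symm hsd
    have h2 := (hg x').symm hsd
    rw [h] at h1
    exact Subtype.ext (h1.unique h2)
  have hr : g.range = R.R0 := by
    apply le_antisymm
    · rintro _ ⟨x, rfl⟩
      exact (hg x).memR0 x.2
    · intro x hx
      obtain ⟨f', hf'⟩ := exists_diag R hy (d := σ d) (by rw [R.sig]; exact hsd)
      have h1 : Gr R (σ d) x (f' ⟨x, R0_le_Sg R hx⟩) := hf' ⟨x, R0_le_Sg R hx⟩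
      have h2 := h1.symm hd
      have h3 := h1.memR0 hx
      exact ⟨⟨_, h3⟩, (hg _).unique h2⟩
  exact ⟨isoOf g hinj hr, fun x => hg x⟩

theorem alpha_pow {d : K} (hd : d * (d * d) = 1) {α : MulAut R.R0} (h : ∀ x : R.R0, Gr R d x (α x : R.R0)) :
    α ^ 3 = 1 := by
  apply MulEquiv.ext
  intro x
  have h1 := ((h x).comp (h (α x))).comp (h (α (α x)))
  rw [hd] at h1
  have h2 := h1.unique (Gr.one (R0_le_Sg R x.2))
  have h3 : (α ^ 3) x = α (α (α x)) := rfl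
  rw [h3]
  exact Subtype.ext h2

end rel

section fus

variable {Ω : Type u} [Group Ω] {S : Subgroup Ω} {F : FusionSystem S} {K : Type} [Field K] [Fintype K]
  {σ : K ≃+* K} {R : Rel Ω K σ}

theorem cube (D : JSys F R) {d : K} (hd : d ≠ 0) : d * (d * d) = 1 := by
  have h := FiniteField.pow_card_sub_one_eq_one d hd
  rw [D.card] at h
  rw [← h]; ring

theorem norm_one (D : JSys F R) {d : K} (hd : d ≠ 0) : d * σ d = 1 := by
  rw [D.frob]; exact cube D hd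

/-- The diagonal automorphism of `R₀` extends to `S`. -/
theorem exists_ext [Finite S] (hS : IsPGroup 2 S) (hF : F.IsSaturated 2) (D : JSys F R)
    (hA : F.autGroup R.R0 = pResidual 2 (MulAut R.R0)) {d : K} (hd : d ≠ 0) :
    ∃ ψ ∈ F.Hom S, ∀ (x : Ω) (h : x ∈ S), x ∈ R.R0 → Gr R d x (ψ ⟨x, h⟩) := by
  have hfp : Fact (Nat.Prime 2) := ⟨Nat.prime_two⟩
  have hS_eq := D.fs.S_eq
  have hR0S : R.R0 ≤ S := by rw [hS_eq]; exact R0_le_Sg R
  have hfinR : Finite R.R0 := finite_of_le hR0S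
  obtain ⟨f, hf⟩ := exists_diag R D.y_sq (norm_one D hd)
  obtain ⟨α, hα⟩ := exists_alpha R D.y_sq (norm_one D hd)
  have hα3 := alpha_pow (cube D hd) hα
  have hαF : α ∈ F.autGroup R.R0 := by
    rw [hA]
    refine Subgroup.subset_closure ?_
    exact Nat.Coprime.coprime_dvd_left (orderOf_dvd_of_pow_eq_one hα3) (by decide : Nat.Coprime 3 2)
  have hφ := (mem_autGroup_iff F hR0S α).1 hαF
  have hr : (R.R0.subtype.comp α.toMonoidHom).range = R.R0 := range_eq_of_mapsTo hφ fun x => (α x).2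
  obtain ⟨ψ, hψ, hψe⟩ := (isReceptive_of_isFullyNormalized hS hF D.ess.2.1).2 _ _ hφ hr
  have hle : S ≤ extender S R.R0 (R.R0.subtype.comp α.toMonoidHom) := by
    intro g hg
    have hgS : g ∈ R.Sg := by rw [← hS_eq]; exact hg
    rw [mem_extender_iff]
    refine ⟨hg, mem_normalizer_of_conj_mem hR0S fun x hx => R0_conj R hgS hx, f ⟨g, hgS⟩, ?_, ?_⟩
    · have h1 := (hf ⟨g, hgS⟩).mem
      rw [hS_eq]; exact h1
    · intro x hx
      have h1 : Gr R d (g * x * g⁻¹) ((R.R0.subtype.comp α.toMonoidHom) ⟨g * x * g⁻¹, hx⟩) := hα ⟨_, hx⟩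
      have h2 : Gr R d (g * x * g⁻¹) (f (⟨g, hgS⟩ * ⟨x, R0_le_Sg R x.2⟩ * ⟨g, hgS⟩⁻¹)) :=
        hf (⟨g, hgS⟩ * ⟨x, R0_le_Sg R x.2⟩ * ⟨g, hgS⟩⁻¹)
      have h3 : f ⟨x, R0_le_Sg R x.2⟩ = (R.R0.subtype.comp α.toMonoidHom) x := (hf _).unique (hα x)
      rw [h1.unique h2, map_mul, map_mul, map_inv, h3]
  refine ⟨ψ.comp (Subgroup.inclusion hle), restrict_mem hψ hle, ?_⟩
  intro x h hx
  have h1 : (ψ.comp (Subgroup.inclusion hle)) ⟨x, h⟩ = (R.R0.subtype.comp α.toMonoidHom) ⟨x, hx⟩ := hψe x hx _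
  rw [h1]
  exact hα ⟨x, hx⟩

/-- The restriction of the extension to `V`. -/
theorem exists_extV [Finite S] (hS : IsPGroup 2 S) (hF : F.IsSaturated 2) (D : JSys F R)
    (hA : F.autGroup R.R0 = pResidual 2 (MulAut R.R0)) {d : K} (hd : d ≠ 0) :
    ∃ χ ∈ F.Hom R.Vg, ∃ q : K, ∀ (a c : K) (h : R.e a 0 c ∈ R.Vg),
      χ ⟨R.e a 0 c, h⟩ = R.e (d * a) 0 (c + q * a) := by
  obtain ⟨ψ, hψ, hψe⟩ := exists_ext hS hF D hA hd
  have hN : d * σ d = 1 := norm_one D hd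
  have hfs := D.fs
  have hVS := hfs.V_le
  have hyS := hfs.y_mem
  have hq : 4 ≤ Nat.card K := by rw [Nat.card_eq_fintype_card, D.card]
  have heS : ∀ a b c, R.e a b c ∈ S := fun a b c => hfs.T_le (R.e_mem_T a b c)
  have hz : ∀ c, ψ ⟨R.e 0 0 c, heS _ _ _⟩ = R.e 0 0 c := by
    intro c
    have h1 := (hψe (R.e 0 0 c) (heS _ _ _) ⟨0, c, Or.inl (by rw [map_zero])⟩).unique (gr_e R d 0 0 c)
    rwa [mul_zero, mul_zero] at h1
  have hy : ψ ⟨R.y, hyS⟩ = R.y := by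
    have h0 : R.e 0 0 0 * R.y = R.y := by rw [R.e_zero, one_mul]
    have h2 := gr_ey R d 0 0 0
    rw [mul_zero, mul_zero, h0] at h2
    exact (hψe R.y hyS ⟨0, 0, Or.inr (by rw [map_zero, h0])⟩).unique h2
  have hdg : ∀ a c, ψ ⟨R.e a (σ a) c, heS _ _ _⟩ = R.e (d * a) (σ d * σ a) c := by
    intro a c
    exact (hψe (R.e a (σ a) c) (heS _ _ _) ⟨a, c, Or.inl rfl⟩).unique (gr_e R d a (σ a) c)
  -- the value at `e 0 (σ a) 0`
  have hw : ∀ a, ψ ⟨R.e 0 (σ a) 0, heS _ _ _⟩ = R.y * ψ ⟨R.e a 0 0, heS _ _ _⟩ * R.y⁻¹ := by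
    intro a
    have h1 : (⟨R.e 0 (σ a) 0, heS _ _ _⟩ : S) = ⟨R.y, hyS⟩ * ⟨R.e a 0 0, heS _ _ _⟩ * ⟨R.y, hyS⟩⁻¹ := by
      apply Subtype.ext
      show R.e 0 (σ a) 0 = R.y * R.e a 0 0 * R.y⁻¹
      rw [R.y_e, map_zero, mul_zero, add_zero, map_zero]
    rw [h1, map_mul, map_mul, map_inv, hy]
  have hprod : ∀ a, ψ ⟨R.e a 0 0, heS _ _ _⟩ * (R.y * ψ ⟨R.e a 0 0, heS _ _ _⟩ * R.y⁻¹) =
      R.e (d * a) (σ d * σ a) (a * σ a) := by
    intro a
    rw [← hw, ← map_mul, ← hdg]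
    congr 1
    apply Subtype.ext
    show R.e a 0 0 * R.e 0 (σ a) 0 = R.e a (σ a) (a * σ a)
    rw [R.e_mul]
    congr 1 <;> ring
  obtain ⟨χ, hχdef⟩ : ∃ χ : R.Vg →* Ω, χ = ψ.comp (Subgroup.inclusion hVS) := ⟨_, rfl⟩
  have hχ : χ ∈ F.Hom R.Vg := by rw [hχdef]; exact restrict_mem hψ hVS
  have hχe : ∀ a c (h : R.e a 0 c ∈ R.Vg), χ ⟨R.e a 0 c, h⟩ = ψ ⟨R.e a 0 c, heS _ _ _⟩ := by
    intro a c h
    rw [hχdef]; rfl
  rcases hfs.conj_V hq (isConj_range hχ) with hr | hr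
  · -- `ψ(V) = V`
    have hV : ∀ v, χ v ∈ R.Vg := fun v => by
      have h1 : χ v ∈ χ.range := ⟨v, rfl⟩
      rwa [hr] at h1
    obtain ⟨θ, p, q, r, s, -, hsemi⟩ := hfs.semi χ hχ hV
    have h0 : ∀ c, r * θ c = 0 ∧ p * θ c = c := by
      intro c
      have h1 := hsemi 0 c (R.e_mem_V _ _)
      rw [hχe, hz, map_zero, mul_zero, mul_zero, add_zero, add_zero] at h1
      obtain ⟨h2, -, h3⟩ := R.e_inj h1
      exact ⟨h2.symm, h3.symm⟩
    have hr0 : r = 0 := by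
      have h1 := (h0 1).1
      rwa [map_one, mul_one] at h1
    have hp1 : p = 1 := by
      have h1 := (h0 1).2
      rwa [map_one, mul_one] at h1
    have hθ : ∀ c, θ c = c := by
      intro c
      have h1 := (h0 c).2
      rwa [hp1, one_mul] at h1
    have hs : s = d := by
      have h1 := hsemi 1 0 (R.e_mem_V _ _)
      rw [hχe, map_zero, map_one, mul_zero, mul_zero, mul_one, mul_one, zero_add, zero_add] at h1
      have h2 := hprod 1
      rw [h1, R.y_e, R.e_mul] at h2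
      have h3 := (R.e_inj h2).1
      rwa [map_zero, add_zero, mul_one] at h3
    refine ⟨χ, hχ, q, ?_⟩
    intro a c h
    rw [hsemi, hr0, hp1, hs, hθ, hθ, zero_mul, zero_add, one_mul]
  · -- `ψ(V) = W`
    exfalso
    have hW : ∀ a, ∃ c', ψ ⟨R.e a 0 0, heS _ _ _⟩ = R.e 0 (σ d * σ a) c' := by
      intro a
      have h1 : χ ⟨R.e a 0 0, R.e_mem_V _ _⟩ ∈ χ.range := ⟨_, rfl⟩
      rw [hr, hχe] at h1
      obtain ⟨b, c', h2⟩ := R.mem_Wg.1 h1
      have h3 := hprod a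
      rw [h2, R.y_e, R.e_mul] at h3
      have h4 := (R.e_inj h3).2.1
      rw [map_zero, add_zero] at h4
      exact ⟨c', by rw [h2, h4]⟩
    have hfix : ∀ a, σ a = a := by
      intro a
      obtain ⟨c1, hc1⟩ := hW 1
      obtain ⟨c2, hc2⟩ := hW a
      have h1 : (⟨R.e 1 0 0, heS _ _ _⟩ * ⟨R.e 0 (σ a) 0, heS _ _ _⟩ * ⟨R.e 1 0 0, heS _ _ _⟩⁻¹ : S) =
          ⟨R.e 0 (σ a) 0, heS _ _ _⟩ * ⟨R.e 0 0 (σ a), heS _ _ _⟩ := by
        apply Subtype.ext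
        show R.e 1 0 0 * R.e 0 (σ a) 0 * (R.e 1 0 0)⁻¹ = R.e 0 (σ a) 0 * R.e 0 0 (σ a)
        rw [R.e_conj, R.e_mul]
        congr 1 <;> ring
      have h2 := congrArg ψ h1
      rw [map_mul, map_mul, map_inv, map_mul, hz, hw, hc1, hc2, R.y_e, R.e_conj, R.e_mul] at h2
      have h3 := (R.e_inj h2).2.2
      simp only [map_mul, R.sig, map_zero, map_one, mul_zero, zero_mul, add_zero, mul_one] at h3
      have h4 : -(a * (d * σ d)) = σ a := by linear_combination h3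
      rw [hN, mul_one, R.neg_eq] at h4
      exact h4.symm
    -- so `K` has at most two elements
    have h1 : ∀ a : K, a = 0 ∨ a = 1 := by
      intro a
      have h2 := D.frob a
      rw [hfix] at h2
      by_cases ha : a = 0
      · exact Or.inl ha
      · right
        exact (mul_left_cancel₀ ha (by rw [mul_one]; exact h2)).symm
    have h2 : Fintype.card K ≤ 2 := by
      classical
      have h3 : (Finset.univ : Finset K) ⊆ {0, 1} := by
        intro a _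
        rcases h1 a with h | h <;> simp [h]
      calc Fintype.card K = (Finset.univ : Finset K).card := rfl
        _ ≤ ({0, 1} : Finset K).card := Finset.card_le_card h3
        _ ≤ 2 := Finset.card_le_two
    rw [D.card] at h2
    omega

/-- **The first half of JB**: `GL₂(K) ≤ Aut_F(V)`. -/
theorem gl_mem [Finite S] (hS : IsPGroup 2 S) (hF : F.IsSaturated 2) (D : JSys F R)
    (hA : F.autGroup R.R0 = pResidual 2 (MulAut R.R0)) (p q r s : K) (hdet : p * s - q * r ≠ 0) :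
    ∃ φ ∈ F.Hom R.Vg, ∀ (a c : K) (h : R.e a 0 c ∈ R.Vg),
      φ ⟨R.e a 0 c, h⟩ = R.e (r * c + s * a) 0 (p * c + q * a) := by
  obtain ⟨χ, hχ, q₀, hχe⟩ := exists_extV hS hF D hA hdet
  obtain ⟨Δ, hΔ⟩ : ∃ Δ, Δ = p * s - q * r := ⟨_, rfl⟩
  rw [← hΔ] at hdet hχe
  obtain ⟨ξ, hξ, hξe⟩ := D.fs.lin p ((q - p * q₀) / Δ) r ((s - r * q₀) / Δ) (by
    have h1 : p * ((s - r * q₀) / Δ) - (q - p * q₀) / Δ * r = (p * s - q * r) / Δ := by ring
    rw [h1, ← hΔ, div_self hdet])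
  have hV : ∀ v, χ v ∈ R.Vg := by
    rintro ⟨v, hv⟩
    obtain ⟨a, c, rfl⟩ := R.mem_Vg.1 hv
    rw [hχe]; exact R.e_mem_V _ _
  obtain ⟨φ, hφ, hφe⟩ := exists_comp hχ hξ hV
  refine ⟨φ, hφ, ?_⟩
  intro a c h
  rw [hφe]
  have h1 : (⟨χ ⟨R.e a 0 c, h⟩, hV _⟩ : R.Vg) = ⟨R.e (Δ * a) 0 (c + q₀ * a), R.e_mem_V _ _⟩ :=
    Subtype.ext (hχe a c h)
  have h2 : r * (c + q₀ * a) + (s - r * q₀) / Δ * (Δ * a) = r * c + s * a := by
    rw [← mul_assoc, div_mul_cancel₀ _ hdet]; ring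
  have h3 : p * (c + q₀ * a) + (q - p * q₀) / Δ * (Δ * a) = p * c + q * a := by
    rw [← mul_assoc, div_mul_cancel₀ _ hdet]; ring
  rw [h1, hξe, h2, h3]

/-- `α` is `θ`-semilinear. -/
def SL (R : Rel Ω K σ) (θ : K ≃+* K) (α : MulAut R.Vg) : Prop :=
  ∃ p q r s : K, p * s - q * r ≠ 0 ∧ ∀ (a c : K), ((α ⟨R.e a 0 c, R.e_mem_V a c⟩ : R.Vg) : Ω) =
    R.e (r * θ c + s * θ a) 0 (p * θ c + q * θ a)

omit [Fintype K] in
theorem SL.mul {θ θ' : K ≃+* K} {α β : MulAut R.Vg} (h : SL R θ α) (h' : SL R θ' β) :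
    SL R (θ'.trans θ) (α * β) := by
  obtain ⟨p, q, r, s, hd, h⟩ := h
  obtain ⟨p', q', r', s', hd', h'⟩ := h'
  refine ⟨p * θ p' + q * θ r', p * θ q' + q * θ s', r * θ p' + s * θ r', r * θ q' + s * θ s', ?_, ?_⟩
  · have h1 : (p * θ p' + q * θ r') * (r * θ q' + s * θ s') - (p * θ q' + q * θ s') * (r * θ p' + s * θ r') =
        (p * s - q * r) * θ (p' * s' - q' * r') := by
      simp only [map_sub, map_mul]
      ring
    rw [h1]
    exact mul_ne_zero hd fun h0 => hd' ((map_eq_zero θ).1 h0)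
  · intro a c
    have h1 : (α * β) ⟨R.e a 0 c, R.e_mem_V a c⟩ = α (β ⟨R.e a 0 c, R.e_mem_V a c⟩) := rfl
    have h2 : β ⟨R.e a 0 c, R.e_mem_V a c⟩ = ⟨R.e (r' * θ' c + s' * θ' a) 0 (p' * θ' c + q' * θ' a),
        R.e_mem_V _ _⟩ := Subtype.ext (h' a c)
    rw [h1, h2, h]
    congr 1
    · simp only [map_add, map_mul, RingEquiv.trans_apply]
      ring
    · simp only [map_add, map_mul, RingEquiv.trans_apply]
      ring

omit [Fintype K] in
theorem SL.uniq {θ θ' : K ≃+* K} {α : MulAut R.Vg} (h : SL R θ α) (h' : SL R θ' α) (c : K) : θ c = θ' c := by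
  obtain ⟨p, q, r, s, hd, h⟩ := h
  obtain ⟨p', q', r', s', hd', h'⟩ := h'
  have key : ∀ c, r * θ c = r' * θ' c ∧ p * θ c = p' * θ' c := by
    intro c
    have h1 := (h 0 c).symm.trans (h' 0 c)
    rw [map_zero, map_zero, mul_zero, mul_zero, mul_zero, mul_zero, add_zero, add_zero, add_zero, add_zero] at h1
    obtain ⟨h2, -, h3⟩ := R.e_inj h1
    exact ⟨h2, h3⟩
  have h1 := key 1
  rw [map_one, map_one, mul_one, mul_one, mul_one, mul_one] at h1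
  by_cases hr : r = 0
  · have hp : p ≠ 0 := fun hp => hd (by rw [hr, hp]; ring)
    have h2 := (key c).2
    rw [← h1.2] at h2
    exact mul_left_cancel₀ hp h2
  · have h2 := (key c).1
    rw [← h1.1] at h2
    exact mul_left_cancel₀ hr h2

theorem theta_two (D : JSys F R) (θ : K ≃+* K) (a : K) : θ (θ a) = a := by
  by_cases h0 : a = 0
  · rw [h0, map_zero, map_zero]
  by_cases h1 : a = 1
  · rw [h1, map_one, map_one]
  have h2 := cube D h0
  have h3 : a * a + a + 1 = 0 := by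
    have h4 : (a - 1) * (a * a + a + 1) = 0 := by linear_combination h2
    exact (mul_eq_zero.1 h4).resolve_left (sub_ne_zero.2 h1)
  have h4 : θ a * θ a + θ a + 1 = 0 := by
    have h5 := congrArg θ h3
    rw [map_add, map_add, map_mul, map_one, map_zero] at h5
    exact h5
  have h5 : (θ a - a) * (θ a - (a + 1)) = 0 := by
    linear_combination h4 + h3 - R.two (θ a) - R.two (a * θ a) - R.two 1
  rcases mul_eq_zero.1 h5 with h | h
  · have h6 : θ a = a := sub_eq_zero.1 h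
    rw [h6, h6]
  · have h6 : θ a = a + 1 := sub_eq_zero.1 h
    rw [h6, map_add, h6, map_one]
    linear_combination R.two 1

theorem SL.pow_odd (D : JSys F R) {θ : K ≃+* K} {α : MulAut R.Vg} (h : SL R θ α) (n : ℕ) :
    SL R θ (α ^ (2 * n + 1)) := by
  induction n with
  | zero => rw [mul_zero, zero_add, pow_one]; exact h
  | succ n ih =>
    have h1 := (ih.mul h).mul h
    have h2 : (θ.trans (θ.trans θ)) = θ := by
      apply RingEquiv.ext
      intro x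
      show θ (θ (θ x)) = θ x
      rw [theta_two D]
    rw [h2] at h1
    have h3 : α ^ (2 * (n + 1) + 1) = α ^ (2 * n + 1) * α * α := by
      have h4 : 2 * (n + 1) + 1 = 2 * n + 1 + 1 + 1 := by ring
      rw [h4, pow_succ, pow_succ]
    rw [h3]
    exact h1

theorem lin_of [Finite S] (hS : IsPGroup 2 S) (hF : F.IsSaturated 2) (D : JSys F R) {α : MulAut R.Vg}
    (hα : α ∈ F.autGroup R.Vg) {θ : K ≃+* K} (h : SL R θ α) (c : K) : θ c = c := by
  have hfp : Fact (Nat.Prime 2) := ⟨Nat.prime_two⟩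
  have hfinV := R.finite_Vg
  have hVS := D.fs.V_le
  have hq : 4 ≤ Nat.card K := by rw [Nat.card_eq_fintype_card, D.card]
  have hfa := isFullyAutomized_of_isFullyNormalized hS hF (D.fs.fnV hq)
  obtain ⟨k, m, ⟨n, hm⟩, ho⟩ := Nat.exists_eq_two_pow_mul_odd (orderOf_pos α).ne'
  have hSLβ := h.pow_odd D n
  rw [← hm] at hSLβ
  obtain ⟨β, hβ⟩ : ∃ β, β = α ^ m := ⟨_, rfl⟩
  rw [← hβ] at hSLβ
  have hβF : β ∈ F.autGroup R.Vg := by rw [hβ]; exact Subgroup.pow_mem _ hα _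
  have hβ2 : β ^ 2 ^ k = 1 := by
    rw [hβ, ← pow_mul, mul_comm, ← ho, pow_orderOf_eq_one]
  have hBp : IsPGroup 2 (Subgroup.zpowers β) := by
    rintro ⟨b, hb⟩
    obtain ⟨n, rfl⟩ := Subgroup.mem_zpowers_iff.1 hb
    refine ⟨k, Subtype.ext ?_⟩
    show (β ^ n) ^ 2 ^ k = 1
    rw [← zpow_natCast, ← zpow_mul, mul_comm, zpow_mul, zpow_natCast, hβ2, one_zpow]
  obtain ⟨b, hb, hbe⟩ := exists_aut_conj_le_of_isPGroup (subtype_mem F hVS) (Subgroup.range_subtype _) hfa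
    (Subgroup.zpowers β) (Subgroup.zpowers_le.2 hβF) hBp
  have h1 := hbe β (Subgroup.mem_zpowers β)
  rw [congr_isoOf_subtype] at h1
  obtain ⟨g, hg, hge⟩ := (mem_autInducedBy_iff S _ _).1 h1
  have hgT : g ∈ R.T := by
    rw [← D.fs.norV]
    exact ⟨hg, mem_normalizer_of_aut hge⟩
  obtain ⟨a₀, b₀, c₀, rfl⟩ := R.mem_T.1 hgT
  have hSLg : SL R (RingEquiv.refl K) (b * β * b⁻¹) := by
    refine ⟨1, -b₀, 0, 1, ?_, ?_⟩
    · rw [mul_zero, sub_zero, mul_one]; exact one_ne_zero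
    · intro a c
      rw [hge]
      show R.e a₀ b₀ c₀ * R.e a 0 c * (R.e a₀ b₀ c₀)⁻¹ = _
      rw [R.e_conj]
      show _ = R.e (0 * c + 1 * a) 0 (1 * c + -b₀ * a)
      congr 1 <;> ring
  -- `b` is semilinear
  have hbm := (mem_autGroup_iff F hVS b).1 hb
  obtain ⟨θ₀, p, q, r, s, hd, hsemi⟩ := D.fs.semi _ hbm fun v => (b v).2
  have hSLb : SL R θ₀ b := ⟨p, q, r, s, hd, fun a c => hsemi a c (R.e_mem_V a c)⟩
  have h2 := hSLb.mul hSLβ
  have h3 := hSLg.mul hSLb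
  have h4 : b * β * b⁻¹ * b = b * β := by group
  rw [h4] at h3
  have h5 := h2.uniq h3 c
  have h6 : θ₀ (θ c) = θ₀ c := h5
  exact θ₀.injective h6

end fus

/-- **JB**: `Aut_F(V) = GL₂(K)`. -/
theorem stJB : StJB.{u} := by
  intro Ω _ S _ hS F hF K _ _ σ R D hA
  refine ⟨fun p q r s hd => gl_mem hS hF D hA p q r s hd, ?_⟩
  intro φ hφ hφV
  have hfinV := R.finite_Vg
  obtain ⟨θ, p, q, r, s, hd, hsemi⟩ := D.fs.semi φ hφ hφV
  obtain ⟨α, hα, hαe⟩ := exists_aut hφ (range_eq_of_mapsTo hφ hφV)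
  have hSL : SL R θ α := ⟨p, q, r, s, hd, fun a c => by rw [hαe]; exact hsemi a c _⟩
  have hθ := lin_of hS hF D hα hSL
  refine ⟨p, q, r, s, hd, ?_⟩
  intro a c h
  rw [hsemi, hθ, hθ]

end Cfsg.Agent.H442.J3F.JB
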