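import Cfsg.Agent.H256.SF.LinTwo

/-!
# Coordinates over the field with four elements (helper442, S5175)

`exists_lin` : an elementary abelian group `E` of order 16 with an automorphism `w` of order three without fixed
points is a plane over every field `K` with four elements, the automorphisms commuting with `w` normalize `SL₂(K)`,
and involutions commuting with `w` lie in `SL₂(K)`.
-/

set_option autoImplicit false

namespace Cfsg.Agent.H442.J3F

open Cfsg.Agent.H256.SF Multiplicative
open scoped MatrixGroups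

section field

variable {K : Type} [Field K] [Fintype K]

theorem two_eq_zero (hK : Fintype.card K = 4) : (2 : K) = 0 := by
  have h1 : ((4 : ℕ) : K) = 0 := by rw [← hK]; exact FiniteField.cast_card_eq_zero K
  have h2 : (2 : K) * 2 = 0 := by
    rw [← h1]; norm_num
  rcases mul_eq_zero.1 h2 with h | h <;> exact h

theorem charP_two (hK : Fintype.card K = 4) : CharP K 2 :=
  CharTwo.of_one_ne_zero_of_two_eq_zero one_ne_zero (two_eq_zero hK)

theorem exists_omega (hK : Fintype.card K = 4) : ∃ c : K, c ^ 2 = c + 1 := by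
  classical
  have h2 := two_eq_zero hK
  obtain ⟨c, hc0, hc1⟩ : ∃ c : K, c ≠ 0 ∧ c ≠ 1 := by
    by_contra hcon
    push Not at hcon
    have h3 : Fintype.card K ≤ 2 := by
      calc Fintype.card K = (Finset.univ : Finset K).card := rfl
        _ ≤ ({0, 1} : Finset K).card := Finset.card_le_card (fun x _ => by
            by_cases hx : x = 0
            · simp [hx]
            · simp [hcon x hx])
        _ ≤ 2 := Finset.card_le_two
    omega
  refine ⟨c, ?_⟩
  have h3 : c ^ (Fintype.card K - 1) = 1 := FiniteField.pow_card_sub_one_eq_one c hc0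
  rw [hK] at h3
  have h4 : (c - 1) * (c ^ 2 + c + 1) = 0 := by
    have : c ^ 3 = 1 := h3
    linear_combination this
  rcases mul_eq_zero.1 h4 with h5 | h5
  · exact absurd (sub_eq_zero.1 h5) hc1
  · linear_combination h5 - (c + 1) * h2

theorem cases4 (hK : Fintype.card K = 4) {c : K} (hc : c ^ 2 = c + 1) (x : K) : x = 0 ∨ x = 1 ∨ x = c ∨ x = c + 1 := by
  classical
  have h2 := two_eq_zero hK
  have hc0 : c ≠ 0 := by rintro rfl; simp at hc
  have hc1 : c ≠ 1 := by
    rintro rfl
    have : (1 : K) = 0 := by linear_combination -hc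
    exact one_ne_zero this
  have hcc : c + 1 ≠ 0 := by
    intro h
    apply hc1
    linear_combination h - h2
  have h3 : ({0, 1, c, c + 1} : Finset K) = Finset.univ := by
    apply Finset.eq_univ_of_card
    rw [hK, Finset.card_insert_of_notMem, Finset.card_insert_of_notMem, Finset.card_insert_of_notMem,
      Finset.card_singleton]
    · rw [Finset.mem_singleton]
      intro h
      exact one_ne_zero (α := K) (by linear_combination -h)
    · simp only [Finset.mem_insert, Finset.mem_singleton, not_or]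
      refine ⟨fun h => hc1 h.symm, fun h => hc0 ?_⟩
      linear_combination -h
    · simp only [Finset.mem_insert, Finset.mem_singleton, not_or]
      exact ⟨fun h => zero_ne_one h, fun h => hc0 h.symm, fun h => hcc h.symm⟩
  have h4 : x ∈ ({0, 1, c, c + 1} : Finset K) := by rw [h3]; exact Finset.mem_univ _
  simpa using h4

/-- the coordinates of the model -/
def mu (ι : ZMod 2 →+* K) (c : K) : M →+ (Fin 2 → K) where
  toFun m := ![ι m.1 + ι m.2.1 * c, ι m.2.2.1 + ι m.2.2.2 * c]
  map_zero' := by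
    ext i
    fin_cases i <;> simp
  map_add' x y := by
    ext i
    fin_cases i <;> simp <;> ring

omit [Fintype K] in
theorem mu_w0 (ι : ZMod 2 →+* K) {c : K} (hc : c ^ 2 = c + 1) (m : M) : mu ι c (w0 m) = c • mu ι c m := by
  ext i
  fin_cases i
  · show ι m.2.1 + ι (m.1 + m.2.1) * c = c * (ι m.1 + ι m.2.1 * c)
    rw [map_add]
    linear_combination -(ι m.2.1) * hc
  · show ι m.2.2.2 + ι (m.2.2.1 + m.2.2.2) * c = c * (ι m.2.2.1 + ι m.2.2.2 * c)
    rw [map_add]
    linear_combination -(ι m.2.2.2) * hc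

theorem pair_zero (hK : Fintype.card K = 4) (ι : ZMod 2 →+* K) {c : K} (hc : c ^ 2 = c + 1) {i j : ZMod 2}
    (h : ι i + ι j * c = 0) : i = 0 ∧ j = 0 := by
  have h2 := two_eq_zero hK
  have hz : ∀ i : ZMod 2, i = 0 ∨ i = 1 := by decide
  have hi := hz i
  have hj := hz j
  rcases hi with rfl | rfl <;> rcases hj with rfl | rfl
  · exact ⟨rfl, rfl⟩
  · exfalso
    rw [map_zero, map_one, zero_add, one_mul] at h
    rw [h] at hc
    simp at hc
  · exfalso
    rw [map_zero, map_one, zero_mul, add_zero] at h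
    exact one_ne_zero h
  · exfalso
    rw [map_one, one_mul] at h
    have h3 : (1 : K) = 0 := by linear_combination hc + (2 - c) * h
    exact one_ne_zero h3

theorem mu_bij (hK : Fintype.card K = 4) (ι : ZMod 2 →+* K) {c : K} (hc : c ^ 2 = c + 1) :
    Function.Bijective (mu ι c) := by
  refine (Nat.bijective_iff_injective_and_card _).2 ⟨?_, ?_⟩
  · rw [injective_iff_map_eq_zero]
    intro m hm
    have h0 : ι m.1 + ι m.2.1 * c = 0 := congrFun hm 0
    have h1 : ι m.2.2.1 + ι m.2.2.2 * c = 0 := congrFun hm 1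
    obtain ⟨a1, a2⟩ := pair_zero hK ι hc h0
    obtain ⟨a3, a4⟩ := pair_zero hK ι hc h1
    exact Prod.ext a1 (Prod.ext a2 (Prod.ext a3 a4))
  · rw [card_M, Nat.card_eq_fintype_card, Fintype.card_fun, hK, Fintype.card_fin]
    norm_num

end field

section

variable {E : Type*} [Group E] {K : Type} [Field K]

/-- the action of a matrix through coordinates -/
noncomputable def act (ψ : E ≃* Multiplicative (Fin 2 → K)) : GL (Fin 2) K →* MulAut E where
  toFun g :=
    { toFun := fun x => ψ.symm (ofAdd (g.1.mulVec (toAdd (ψ x))))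
      invFun := fun x => ψ.symm (ofAdd ((g⁻¹).1.mulVec (toAdd (ψ x))))
      left_inv := fun x => by
        show ψ.symm (ofAdd ((g⁻¹).1.mulVec (toAdd (ψ (ψ.symm (ofAdd (g.1.mulVec (toAdd (ψ x))))))))) = x
        rw [MulEquiv.apply_symm_apply, toAdd_ofAdd, Matrix.mulVec_mulVec, ← Units.val_mul, inv_mul_cancel,
          Units.val_one, Matrix.one_mulVec, ofAdd_toAdd, MulEquiv.symm_apply_apply]
      right_inv := fun x => by
        show ψ.symm (ofAdd (g.1.mulVec (toAdd (ψ (ψ.symm (ofAdd ((g⁻¹).1.mulVec (toAdd (ψ x))))))))) = x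
        rw [MulEquiv.apply_symm_apply, toAdd_ofAdd, Matrix.mulVec_mulVec, ← Units.val_mul, mul_inv_cancel,
          Units.val_one, Matrix.one_mulVec, ofAdd_toAdd, MulEquiv.symm_apply_apply]
      map_mul' := fun x y => by
        rw [map_mul, toAdd_mul, Matrix.mulVec_add, ofAdd_add, map_mul] }
  map_one' := by
    ext x
    show ψ.symm (ofAdd ((1 : Matrix (Fin 2) (Fin 2) K).mulVec (toAdd (ψ x)))) = x
    rw [Matrix.one_mulVec, ofAdd_toAdd, MulEquiv.symm_apply_apply]
  map_mul' g h := by
    ext x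
    show ψ.symm (ofAdd ((g.1 * h.1).mulVec (toAdd (ψ x)))) =
      ψ.symm (ofAdd (g.1.mulVec (toAdd (ψ (ψ.symm (ofAdd (h.1.mulVec (toAdd (ψ x)))))))))
    rw [MulEquiv.apply_symm_apply, toAdd_ofAdd, Matrix.mulVec_mulVec]

theorem act_spec (ψ : E ≃* Multiplicative (Fin 2 → K)) (g : GL (Fin 2) K) (x : E) :
    toAdd (ψ (act ψ g x)) = g.1.mulVec (toAdd (ψ x)) := by
  show toAdd (ψ (ψ.symm (ofAdd (g.1.mulVec (toAdd (ψ x)))))) = _
  rw [MulEquiv.apply_symm_apply, toAdd_ofAdd]

theorem act_injective (ψ : E ≃* Multiplicative (Fin 2 → K)) : Function.Injective (act ψ) := by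
  intro g h hgh
  apply Units.ext
  have h1 : ∀ v : Fin 2 → K, g.1.mulVec v = h.1.mulVec v := by
    intro v
    have h2 := act_spec ψ g (ψ.symm (ofAdd v))
    have h3 := act_spec ψ h (ψ.symm (ofAdd v))
    rw [MulEquiv.apply_symm_apply, toAdd_ofAdd] at h2 h3
    rw [← h2, ← h3, hgh]
  exact Matrix.mulVec_injective (funext h1)

/-- automorphisms which commute with a scalar generating `K` are matrices -/
theorem exists_act [Fintype K] (hK : Fintype.card K = 4) {c : K} (hc : c ^ 2 = c + 1)
    (ψ : E ≃* Multiplicative (Fin 2 → K)) {w : MulAut E} (hw : ∀ x, toAdd (ψ (w x)) = c • toAdd (ψ x)) {a : MulAut E}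
    (ha : ∀ x, a (w x) = w (a x)) : ∃ g : GL (Fin 2) K, a = act ψ g := by
  -- the linear map
  have hlin : ∀ b : MulAut E, (∀ x, b (w x) = w (b x)) →
      ∃ f : (Fin 2 → K) →ₗ[K] (Fin 2 → K), ∀ v, f v = toAdd (ψ (b (ψ.symm (ofAdd v)))) := by
    intro b hb
    have hadd : ∀ u v : Fin 2 → K, toAdd (ψ (b (ψ.symm (ofAdd (u + v))))) =
        toAdd (ψ (b (ψ.symm (ofAdd u)))) + toAdd (ψ (b (ψ.symm (ofAdd v)))) := by
      intro u v
      rw [ofAdd_add, map_mul, map_mul, map_mul, toAdd_mul]
    have hcs : ∀ v : Fin 2 → K, toAdd (ψ (b (ψ.symm (ofAdd (c • v))))) = c • toAdd (ψ (b (ψ.symm (ofAdd v)))) := by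
      intro v
      have h1 : ψ.symm (ofAdd (c • v)) = w (ψ.symm (ofAdd v)) := by
        apply ψ.injective
        rw [MulEquiv.apply_symm_apply, ← ofAdd_toAdd (ψ (w _)), hw, MulEquiv.apply_symm_apply, toAdd_ofAdd]
      rw [h1, hb, hw]
    refine ⟨{ toFun := fun v => toAdd (ψ (b (ψ.symm (ofAdd v)))), map_add' := hadd, map_smul' := ?_ }, fun v => rfl⟩
    intro k v
    simp only [RingHom.id_apply]
    have h0 : toAdd (ψ (b (ψ.symm (ofAdd (0 : Fin 2 → K))))) = 0 := by
      rw [ofAdd_zero, map_one, map_one, map_one, toAdd_one]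
    rcases cases4 hK hc k with rfl | rfl | rfl | rfl
    · rw [zero_smul, zero_smul]; exact h0
    · rw [one_smul, one_smul]
    · exact hcs v
    · rw [add_smul, add_smul, one_smul, one_smul, hadd, hcs]
  obtain ⟨f, hf⟩ := hlin a ha
  have ha' : ∀ x, a⁻¹ (w x) = w (a⁻¹ x) := by
    intro x
    apply a.injective
    rw [ha, MulAut.apply_inv_self, MulAut.apply_inv_self]
  obtain ⟨f', hf'⟩ := hlin a⁻¹ ha'
  have hff : f ∘ₗ f' = LinearMap.id := by
    ext1 v
    apply LinearMap.ext
    intro t
    simp only [LinearMap.comp_apply, LinearMap.id_apply]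
    rw [hf, hf', ofAdd_toAdd, MulEquiv.symm_apply_apply, MulAut.apply_inv_self, MulEquiv.apply_symm_apply,
      toAdd_ofAdd]
  have hff' : f' ∘ₗ f = LinearMap.id := by
    ext1 v
    apply LinearMap.ext
    intro t
    simp only [LinearMap.comp_apply, LinearMap.id_apply]
    rw [hf', hf, ofAdd_toAdd, MulEquiv.symm_apply_apply, MulAut.inv_apply_self, MulEquiv.apply_symm_apply,
      toAdd_ofAdd]
  refine ⟨⟨LinearMap.toMatrix' f, LinearMap.toMatrix' f', ?_, ?_⟩, ?_⟩
  · rw [← LinearMap.toMatrix'_comp, hff, LinearMap.toMatrix'_id]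
  · rw [← LinearMap.toMatrix'_comp, hff', LinearMap.toMatrix'_id]
  · ext x
    apply ψ.injective
    apply toAdd.injective
    rw [act_spec]
    show _ = (LinearMap.toMatrix' f).mulVec (toAdd (ψ x))
    rw [LinearMap.toMatrix'_mulVec, hf, ofAdd_toAdd, MulEquiv.symm_apply_apply]

/-- `SL₂(K)` acting through coordinates -/
noncomputable def sact (ψ : E ≃* Multiplicative (Fin 2 → K)) : Matrix.SpecialLinearGroup (Fin 2) K →* MulAut E :=
  (act ψ).comp Matrix.SpecialLinearGroup.toGL

theorem sact_spec (ψ : E ≃* Multiplicative (Fin 2 → K)) (A : Matrix.SpecialLinearGroup (Fin 2) K) (x : E) :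
    toAdd (ψ (sact ψ A x)) = (A : Matrix (Fin 2) (Fin 2) K).mulVec (toAdd (ψ x)) := act_spec ψ _ x

theorem sact_injective (ψ : E ≃* Multiplicative (Fin 2 → K)) : Function.Injective (sact ψ) :=
  (act_injective ψ).comp Matrix.SpecialLinearGroup.toGL_injective

theorem sact_of_det (ψ : E ≃* Multiplicative (Fin 2 → K)) {g : GL (Fin 2) K} (hg : g.1.det = 1) :
    act ψ g = sact ψ ⟨g.1, hg⟩ := by
  show act ψ g = act ψ _
  congr 1
  exact Units.ext rfl

end

/-- **Coordinates.** -/
theorem exists_lin {E : Type*} [Group E] {K : Type} [Field K] [Fintype K] (hK : Fintype.card K = 4)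
    (hE : ∀ a : E, a * a = 1) (hcard : Nat.card E = 16) (w : MulAut E) (hw : ∀ a, w (w a) * w a * a = 1) :
    ∃ (ψ : E ≃* Multiplicative (Fin 2 → K)) (τ : Matrix.SpecialLinearGroup (Fin 2) K →* MulAut E),
      Function.Injective τ ∧
      (∀ A x, toAdd (ψ (τ A x)) = (A : Matrix (Fin 2) (Fin 2) K).mulVec (toAdd (ψ x))) ∧
      (∀ A x, τ A (w x) = w (τ A x)) ∧
      (∀ a : MulAut E, (∀ x, a (w x) = w (a x)) → ∀ A, ∃ B, a * τ A * a⁻¹ = τ B) ∧
      (∀ a : MulAut E, (∀ x, a (w x) = w (a x)) → a * a = 1 → ∃ A, a = τ A) := by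
  classical
  have hfin : Finite E := Nat.finite_of_card_ne_zero (by rw [hcard]; norm_num)
  have hchar := charP_two hK
  obtain ⟨c, hc⟩ := exists_omega hK
  have hcomm : ∀ a b : E, a * b = b * a := by
    intro a b
    have h1 := hE (a * b)
    have h2 : a * b = (a * b)⁻¹ := eq_inv_of_mul_eq_one_left h1
    have h3 : ∀ c : E, c⁻¹ = c := fun c => inv_eq_of_mul_eq_one_left (hE c)
    rw [mul_inv_rev, h3, h3] at h2
    exact h2
  -- the coordinates
  obtain ⟨ψ, hψ⟩ : ∃ ψ : E ≃* Multiplicative (Fin 2 → K), ∀ x, toAdd (ψ (w x)) = c • toAdd (ψ x) := by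
    let _ : CommGroup E := { ‹Group E› with mul_comm := hcomm }
    let _ : Module (ZMod 2) (Additive E) := AddCommGroup.zmodModule (n := 2) (fun x => by
      rw [two_smul]
      exact hE x)
    have hcV : Nat.card (Additive E) = 16 := hcard
    let W : Additive E ≃+ Additive E := MulEquiv.toAdditive w
    have hW : ∀ x : Additive E, W (W x) + W x + x = 0 := fun x => hw x
    obtain ⟨θ, hθ⟩ := exists_theta hW hcV
    let ι : ZMod 2 →+* K := ZMod.castHom (dvd_refl 2) K
    let μ : M ≃+ (Fin 2 → K) := AddEquiv.ofBijective (mu ι c) (mu_bij hK ι hc)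
    let φ : Additive E ≃+ (Fin 2 → K) := θ.symm.trans μ
    refine ⟨{ toFun := fun x => ofAdd (φ (Additive.ofMul x))
              invFun := fun y => Additive.toMul (φ.symm (toAdd y))
              left_inv := fun x => by simp
              right_inv := fun y => by simp
              map_mul' := fun x y => ?_ }, fun x => ?_⟩
    · rw [ofMul_mul, map_add, ofAdd_add]
    · show φ (W (Additive.ofMul x)) = c • φ (Additive.ofMul x)
      show μ (θ.symm (W _)) = c • μ (θ.symm _)
      obtain ⟨m, hm⟩ := θ.surjective (Additive.ofMul x)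
      rw [← hm, ← hθ, AddEquiv.symm_apply_apply, AddEquiv.symm_apply_apply]
      exact mu_w0 ι hc m
  have hcw : ∀ (g : GL (Fin 2) K) (x : E), act ψ g (w x) = w (act ψ g x) := by
    intro g x
    apply ψ.injective
    apply toAdd.injective
    rw [act_spec, hψ, hψ, act_spec, Matrix.mulVec_smul]
  refine ⟨ψ, sact ψ, sact_injective ψ, sact_spec ψ, fun A x => hcw _ x, ?_, ?_⟩
  · intro a ha A
    obtain ⟨g, rfl⟩ := exists_act hK hc ψ hψ ha
    have h1 : act ψ g * sact ψ A * (act ψ g)⁻¹ = act ψ (g * Matrix.SpecialLinearGroup.toGL A * g⁻¹) := by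
      rw [map_mul, map_mul, map_inv]; rfl
    have hdet : (g * Matrix.SpecialLinearGroup.toGL A * g⁻¹).1.det = 1 := by
      rw [Units.val_mul, Units.val_mul, Matrix.det_mul, Matrix.det_mul, mul_right_comm, ← Matrix.det_mul,
        ← Units.val_mul, mul_inv_cancel, Units.val_one, Matrix.det_one, one_mul]
      exact A.2
    exact ⟨_, h1.trans (sact_of_det ψ hdet)⟩
  · intro a ha haa
    obtain ⟨g, rfl⟩ := exists_act hK hc ψ hψ ha
    have h1 : g * g = 1 := act_injective ψ (by rw [map_mul, haa, map_one])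
    have h2 : g.1.det * g.1.det = 1 := by
      rw [← Matrix.det_mul, ← Units.val_mul, h1, Units.val_one, Matrix.det_one]
    have h3 : g.1.det = 1 := by
      have h4 := two_eq_zero hK
      have h5 : (g.1.det - 1) * (g.1.det - 1) = 0 := by linear_combination h2 - (g.1.det - 1) * h4
      rcases mul_eq_zero.1 h5 with h | h <;> exact sub_eq_zero.1 h
    exact ⟨_, sact_of_det ψ h3⟩

end Cfsg.Agent.H442.J3F
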