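import Cfsg.Agent.H442.J3F.Big
import Cfsg.Agent.H788.SF.RowJ3

/-!
# The configuration `Big` in `J₃` (helper442, S5175)

* `exists_twoE` : every Sylow 2-subgroup `S` of `J₃` has the structure `TwoE S z E₁ E₂` with `GL4 E₁ w`;
* `big_j3` : `Big (groupFusionSystem S) K V T x` with `fixS V E = ⊥`, `|K| = 4`.
-/

set_option autoImplicit false

namespace Cfsg.Agent.H442.J3F

open Subgroup Cfsg Cfsg.FusionSystem Cfsg.Agent.H788.SF Cfsg.Agent.H756.HM Cfsg.Agent.KFacts
open Cfsg.Agent.J2Type.Model Cfsg.Agent.J2Type.CStruct Cfsg.Agent.J2Type.SPFacts Cfsg.Agent.H788.SF.JModel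
open Cfsg.Agent.J3Type.OneClass Cfsg.Agent.J3Type.NormA Cfsg.Agent.J3Type.FarPairs Cfsg.Agent.H788.SF.RowJ3

variable {L : Type*} [Group L]

section

variable {z : L} {Q : Subgroup (centralizer ({z} : Set L))} {v : Fin 5 → centralizer ({z} : Set L)}
    {ρ : centralizer ({z} : Set L) →* SP} {n : L} {u : centralizer ({z} : Set L)}

theorem gl4_of_far [Finite L] (F : J3.Facts z Q v ρ n u) {s f : L} (hf : far s f) :
    ∃ w, GL4 (centralizer ({s} : Set L) ⊓ centralizer ({f} : Set L)) w := by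
  obtain ⟨h1, h2, h3, w, hw, h4, h5, h6⟩ := JNorm.main (cfg_of_far (far_conj (allSplit F) (hone F))
    (far_sq (allSplit F)) (far_V (allSplit F)) (far_near (allSplit F)) s f hf)
  exact ⟨w, h1, h2, h3, hw, h4, h5, h6⟩

theorem map_centralizer_conj (g s : L) : (centralizer ({s} : Set L)).map (MulAut.conj g).toMonoidHom =
    centralizer ({g * s * g⁻¹} : Set L) := by
  ext y
  constructor
  · rintro ⟨x, hx, rfl⟩
    rw [SetLike.mem_coe, mem_centralizer_singleton_iff] at hx
    rw [mem_centralizer_singleton_iff]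
    show g * x * g⁻¹ * (g * s * g⁻¹) = g * s * g⁻¹ * (g * x * g⁻¹)
    calc g * x * g⁻¹ * (g * s * g⁻¹) = g * (x * s) * g⁻¹ := by group
      _ = g * (s * x) * g⁻¹ := by rw [hx]
      _ = _ := by group
  · intro hy
    rw [mem_centralizer_singleton_iff] at hy
    refine ⟨g⁻¹ * y * g, ?_, ?_⟩
    · rw [SetLike.mem_coe, mem_centralizer_singleton_iff]
      calc g⁻¹ * y * g * s = g⁻¹ * (y * (g * s * g⁻¹)) * g := by group
        _ = g⁻¹ * (g * s * g⁻¹ * y) * g := by rw [hy]
        _ = _ := by group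
    · show g * (g⁻¹ * y * g) * g⁻¹ = y
      group

/-- the structure of the Sylow 2-subgroups -/
theorem exists_twoE_facts [Finite L] (F : J3.Facts z Q v ρ n u) (S : Sylow 2 L) :
    ∃ (z' f' : L) (E₂ : Subgroup L) (w : L), far z' f' ∧
      TwoE (S : Subgroup L) z' (centralizer ({z'} : Set L) ⊓ centralizer ({f'} : Set L)) E₂ ∧
      GL4 (centralizer ({z'} : Set L) ⊓ centralizer ({f'} : Set L)) w := by
  have M := F.model
  obtain ⟨k, f, hf, hf2, -⟩ := exists_x0 M F.u_sq F.u_not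
  have hfQ : f ∉ Q := by
    intro h
    have h1 := (M.mem_Q f).1 h
    rw [hf] at h1
    exact g0_σ_ne h1
  have h0 := twoE M hf hf2
  have h := h0.map (centralizer ({z} : Set L)).subtype (Subgroup.subtype_injective _)
  rw [map_centralizer] at h
  set T : Subgroup L := (Tc ρ).map (centralizer ({z} : Set L)).subtype with hT
  have hzz : (centralizer ({z} : Set L)).subtype (zc z) = z := rfl
  rw [hzz] at h
  have hTp : IsPGroup 2 T := IsPGroup.of_card (n := 7) (by rw [h.cardT]; norm_num)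
  have hTi : ¬ 2 ∣ T.index := by
    have h1 := T.card_mul_index
    rw [h.cardT, F.card_K] at h1
    omega
  have hf2' : Fact (Nat.Prime 2) := ⟨Nat.prime_two⟩
  obtain ⟨g, hg⟩ := MulAction.exists_smul_eq L (hTp.toSylow hTi) S
  have hS : (S : Subgroup L) = T.map (MulAut.conj g).toMonoidHom := by
    rw [← hg]
    rfl
  have h' := h.map (MulAut.conj g).toMonoidHom (MulAut.conj g).injective
  rw [Subgroup.map_inf _ _ _ (MulAut.conj g).injective] at h'
  rw [map_centralizer_conj, map_centralizer_conj] at h'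
  have hfar : far (g * z * g⁻¹) (g * (f : L) * g⁻¹) :=
    Cfsg.Agent.J3Type.NormA.far_conj g (far_of F hf2 hfQ)
  obtain ⟨w, hw⟩ := gl4_of_far F hfar
  rw [← hS] at h'
  exact ⟨g * z * g⁻¹, g * (f : L) * g⁻¹, _, w, hfar, h', hw⟩

end

/-- **The structure of the Sylow 2-subgroups of `J₃`.** -/
theorem exists_twoE [Finite L] (h : Spor.IsoJ3 L) (S : Sylow 2 L) :
    ∃ (z f : L) (E₂ : Subgroup L) (w : L), far z f ∧
      TwoE (S : Subgroup L) z (centralizer ({z} : Set L) ⊓ centralizer ({f} : Set L)) E₂ ∧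
      GL4 (centralizer ({z} : Set L) ⊓ centralizer ({f} : Set L)) w := by
  obtain ⟨-, z, Q, v, ρ, n, u, F⟩ := J3.exists_facts h
  exact exists_twoE_facts F S

/-- **The configuration `Big` in `J₃`.** -/
theorem big_j3 [Finite L] (h : Spor.IsoJ3 L) (S : Sylow 2 L) {K : Type} [Field K] [Fintype K]
    (hK : Fintype.card K = 4) : ∃ (V T : Subgroup L) (x : L) (b : Big (groupFusionSystem (S : Subgroup L)) K V T x),
      fixS V b.E = ⊥ := by
  obtain ⟨z, f, E₂, w, -, h1, hw⟩ := exists_twoE h S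
  obtain ⟨x, b, -, hb⟩ := big_of h1 hw hK
  exact ⟨_, _, x, b, hb⟩

end Cfsg.Agent.H442.J3F
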